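import Groth.Prelude.Def_W4c5spincurvestfNode
import Mathlib.RingTheory.AdicCompletion.Basic
import Mathlib.RingTheory.LocalRing.MaximalIdeal.Basic

/-!
# Normal forms in the node ring over a complete local ring

Every element of `R[[x, y]]/(xy - π)`, `π` in the maximal ideal, is the class of a unique series
without monomials divisible by `xy`; consequences for the matrix `α(p, q)`.
-/

set_option autoImplicit false

universe u

open MvPowerSeries Finsupp

namespace Groth.Agent.SpinCurvLib.NodeNormal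

variable {R : Type u} [CommRing R]

/-- The exponent of `xy`. -/
noncomputable abbrev oneOne : Fin 2 →₀ ℕ := single 0 1 + single 1 1

/-- A series without monomials divisible by `xy`. -/
def IsRed (F : MvPowerSeries (Fin 2) R) : Prop := ∀ m : Fin 2 →₀ ℕ, 1 ≤ m 0 → 1 ≤ m 1 → coeff m F = 0

theorem oneOne_le {m : Fin 2 →₀ ℕ} : oneOne ≤ m ↔ 1 ≤ m 0 ∧ 1 ≤ m 1 := by
  constructor
  · intro h
    exact ⟨by simpa [oneOne] using h 0, by simpa [oneOne] using h 1⟩
  · rintro ⟨h0, h1⟩ i
    fin_cases i <;> simp [oneOne] <;> assumption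

theorem coeff_rel_mul (π : R) (G : MvPowerSeries (Fin 2) R) (m : Fin 2 →₀ ℕ) :
    coeff m ((X 0 * X 1 - C π) * G) = (if oneOne ≤ m then coeff (m - oneOne) G else 0) - π * coeff m G := by
  rw [sub_mul, map_sub, coeff_C_mul]
  simp only [X_def, monomial_mul_monomial, mul_one]
  rw [coeff_monomial_mul, one_mul]

theorem exists_series [IsLocalRing R] [IsAdicComplete (IsLocalRing.maximalIdeal R) R] {π : R}
    (hπ : π ∈ IsLocalRing.maximalIdeal R) :
    ∃ L : (ℕ → R) → R, ∀ c : ℕ → R, L c = c 0 + π * L (fun k => c (k + 1)) := by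
  let I := IsLocalRing.maximalIdeal R
  let S : (ℕ → R) → ℕ → R := fun c n => ∑ k ∈ Finset.range n, π ^ k * c k
  have hS : ∀ (c : ℕ → R) (m n : ℕ), m ≤ n → S c m ≡ S c n [SMOD (I ^ m • ⊤ : Submodule R R)] := by
    intro c m n h
    induction n, h using Nat.le_induction with
    | base => rfl
    | succ n h ih =>
      refine ih.trans ?_
      rw [SModEq.sub_mem, smul_eq_mul, Ideal.mul_top]
      simp only [S, Finset.sum_range_succ, sub_add_cancel_left]
      exact neg_mem (Ideal.mul_mem_right _ _ (Ideal.pow_le_pow_right h (Ideal.pow_mem_pow hπ n)))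
  choose L hL using fun c : ℕ → R => IsPrecomplete.prec' (I := I) (S c) (fun {m n} h => hS c m n h)
  refine ⟨L, fun c => ?_⟩
  rw [← sub_eq_zero]
  refine IsHausdorff.haus' (I := I) _ fun n => ?_
  have h1 := hL c (n + 1)
  have h2 := hL (fun k => c (k + 1)) n
  rw [SModEq.sub_mem, smul_eq_mul, Ideal.mul_top] at h1 h2 ⊢
  have h3 : S c (n + 1) = c 0 + π * S (fun k => c (k + 1)) n := by
    simp only [S, Finset.sum_range_succ', Finset.mul_sum, pow_succ', pow_zero, one_mul, mul_assoc]
    ring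
  have h4 := sub_mem (Ideal.mul_mem_left _ π h2) (Ideal.pow_le_pow_right n.le_succ h1)
  rw [h3] at h4
  rw [sub_zero]
  convert h4 using 1
  ring

theorem exists_red [IsLocalRing R] [IsAdicComplete (IsLocalRing.maximalIdeal R) R] {π : R}
    (hπ : π ∈ IsLocalRing.maximalIdeal R) (a : SpinCurv.NodeRing R π) :
    ∃ F : MvPowerSeries (Fin 2) R, IsRed F ∧ Ideal.Quotient.mk _ F = a := by
  obtain ⟨F, rfl⟩ := Ideal.Quotient.mk_surjective a
  obtain ⟨L, hL⟩ := exists_series hπ
  let G : MvPowerSeries (Fin 2) R := fun m => L fun k => coeff (m + (k + 1) • oneOne) F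
  refine ⟨F - (X 0 * X 1 - C π) * G, fun m h0 h1 => ?_, ?_⟩
  · obtain ⟨d, rfl⟩ := exists_add_of_le (oneOne_le.2 ⟨h0, h1⟩)
    rw [map_sub, coeff_rel_mul, if_pos (self_le_add_right _ _), add_tsub_cancel_left]
    have hG : ∀ m, coeff m G = L fun k => coeff (m + (k + 1) • oneOne) F := fun _ => rfl
    have e : coeff d G = coeff (oneOne + d) F + π * coeff (oneOne + d) G := by
      rw [hG d, hG (oneOne + d), hL]
      refine congrArg₂ (· + ·) ?_ (congrArg (π * ·) (congrArg L (funext fun k => ?_)))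
      · rw [zero_add, one_smul, add_comm]
      · rw [succ_nsmul _ (k + 1)]
        exact congrArg (fun i => coeff i F) (by abel)
    rw [e]
    ring
  · rw [Ideal.Quotient.mk_eq_mk_iff_sub_mem]
    simp only [sub_sub_cancel_left, neg_mem_iff]
    exact Ideal.mul_mem_right _ _ (Ideal.subset_span rfl)

theorem red_eq_zero [IsNoetherianRing R] [IsLocalRing R] {π : R}
    (hπ : π ∈ IsLocalRing.maximalIdeal R) [IsHausdorff (IsLocalRing.maximalIdeal R) R]
    {F : MvPowerSeries (Fin 2) R} (hF : IsRed F)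
    (h : (Ideal.Quotient.mk _ F : SpinCurv.NodeRing R π) = 0) : F = 0 := by
  obtain ⟨G, rfl⟩ := Ideal.mem_span_singleton'.1 (Ideal.Quotient.eq_zero_iff_mem.1 h)
  have hG : ∀ d : Fin 2 →₀ ℕ, coeff d G = π * coeff (oneOne + d) G := fun d => by
    have := hF (oneOne + d) (by simp [oneOne]) (by simp [oneOne])
    rw [mul_comm, coeff_rel_mul, if_pos (self_le_add_right _ _), add_tsub_cancel_left] at this
    exact sub_eq_zero.1 this
  suffices hzero : G = 0 by rw [hzero, zero_mul]
  have hmem : ∀ (n : ℕ) (d : Fin 2 →₀ ℕ), coeff d G ∈ IsLocalRing.maximalIdeal R ^ n := by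
    intro n
    induction n with
    | zero => simp
    | succ n ih => exact fun d => by rw [hG d, pow_succ']; exact Ideal.mul_mem_mul hπ (ih _)
  ext d
  refine IsHausdorff.haus' (I := IsLocalRing.maximalIdeal R) _ fun n => ?_
  rw [SModEq.sub_mem, smul_eq_mul, Ideal.mul_top, sub_zero]
  exact hmem n d

theorem eq_single {i j : Fin 2} (hij : i ≠ j) {m : Fin 2 →₀ ℕ} (h : m j = 0) : m = single i (m i) := by
  ext k
  by_cases hk : k = i
  · simp [hk]
  · have : k = j := by omega
    subst this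
    rw [h, single_eq_of_ne hk]

theorem coeff_toMv_single (i : Fin 2) (f : PowerSeries R) (n : ℕ) :
    coeff (single i n) (PowerSeries.toMvPowerSeries (σ := Fin 2) i f) = PowerSeries.coeff n f := by
  have h := MvPowerSeries.coeff_embDomain_rename (Function.Embedding.punit i : PUnit ↪ Fin 2) f (single PUnit.unit n)
  rw [embDomain_single] at h
  exact h

theorem coeff_toMv_eq_zero {i j : Fin 2} (hij : i ≠ j) (f : PowerSeries R) {m : Fin 2 →₀ ℕ}
    (h : m j ≠ 0) : coeff m (PowerSeries.toMvPowerSeries (σ := Fin 2) i f) = 0 := by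
  rw [PowerSeries.toMvPowerSeries_apply]
  refine MvPowerSeries.coeff_rename_eq_zero _ _ ?_
  rintro ⟨d, rfl⟩
  exact h (mapDomain_of_notMem_range _ _ (by rintro ⟨_, e⟩; exact hij e))

theorem coeff_X_mul_toMv {i k : Fin 2} (f : PowerSeries R) (m : Fin 2 →₀ ℕ) :
    coeff m (X k * PowerSeries.toMvPowerSeries (σ := Fin 2) i f) =
      if single k 1 ≤ m then coeff (m - single k 1) (PowerSeries.toMvPowerSeries (σ := Fin 2) i f) else 0 := by
  rw [X_def, coeff_monomial_mul, one_mul]

theorem red_decomp {i j : Fin 2} (hij : i ≠ j) {F : MvPowerSeries (Fin 2) R} (hF : IsRed F) :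
    ∃ f g : PowerSeries R,
      F = PowerSeries.toMvPowerSeries (σ := Fin 2) i f + X j * PowerSeries.toMvPowerSeries (σ := Fin 2) j g := by
  refine ⟨PowerSeries.mk fun n => coeff (single i n) F, PowerSeries.mk fun n => coeff (single j (n + 1)) F, ?_⟩
  ext m
  rw [map_add, coeff_X_mul_toMv]
  by_cases hj : m j = 0
  · rw [if_neg (fun hle => by have := hle j; simp [hj] at this), add_zero]
    obtain ⟨n, rfl⟩ : ∃ n, m = single i n := ⟨m i, eq_single hij hj⟩
    rw [coeff_toMv_single, PowerSeries.coeff_mk]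
  · rw [coeff_toMv_eq_zero hij _ hj, zero_add, if_pos (by
      intro k
      by_cases hk : k = j
      · subst hk; simp; omega
      · simp [single_eq_of_ne hk])]
    by_cases hi : m i = 0
    · obtain ⟨n, rfl⟩ : ∃ n, m = single j (n + 1) := ⟨m j - 1, by
        rw [show m j - 1 + 1 = m j by omega]; exact eq_single hij.symm hi⟩
      rw [← single_tsub, Nat.add_sub_cancel, coeff_toMv_single, PowerSeries.coeff_mk]
    · rw [coeff_toMv_eq_zero hij.symm _ (m := m - single j 1) (by
        rw [tsub_apply, single_eq_of_ne hij]; simpa using hi)]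
      refine hF m ?_ ?_ <;> fin_cases i <;> fin_cases j <;> first | contradiction | (simp at hi hj ⊢; omega)

section Node

variable [IsNoetherianRing R] [IsLocalRing R] [IsAdicComplete (IsLocalRing.maximalIdeal R) R]

theorem exists_ofX_add_y_mul {π : R} (hπ : π ∈ IsLocalRing.maximalIdeal R) (a : SpinCurv.NodeRing R π) :
    ∃ (f : PowerSeries R) (c : SpinCurv.NodeRing R π),
      a = SpinCurv.NodeRing.ofX R π f + SpinCurv.NodeRing.y R π * c := by
  obtain ⟨F, hF, rfl⟩ := exists_red hπ a
  obtain ⟨f, g, rfl⟩ := red_decomp (i := (0 : Fin 2)) (j := 1) (by decide) hF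
  exact ⟨f, SpinCurv.NodeRing.ofY R π g, by rw [map_add, map_mul]⟩

theorem exists_ofY_add_x_mul {π : R} (hπ : π ∈ IsLocalRing.maximalIdeal R) (a : SpinCurv.NodeRing R π) :
    ∃ (g f : PowerSeries R),
      a = SpinCurv.NodeRing.ofY R π g + SpinCurv.NodeRing.x R π * SpinCurv.NodeRing.ofX R π f := by
  obtain ⟨F, hF, rfl⟩ := exists_red hπ a
  obtain ⟨g, f, rfl⟩ := red_decomp (i := (1 : Fin 2)) (j := 0) (by decide) hF
  exact ⟨g, f, by rw [map_add, map_mul]⟩

variable (p q : R)

theorem mulVec_nodeAlpha (a b : SpinCurv.NodeRing R (p * q)) :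
    Matrix.mulVec (SpinCurv.nodeAlpha R p q) ![a, b] =
      ![SpinCurv.NodeRing.x R (p * q) * a + algebraMap R (SpinCurv.NodeRing R (p * q)) p * b,
        algebraMap R (SpinCurv.NodeRing R (p * q)) q * a + SpinCurv.NodeRing.y R (p * q) * b] := by
  funext i
  fin_cases i <;> simp [SpinCurv.nodeAlpha, Matrix.mulVec, dotProduct, Fin.sum_univ_two]

theorem eq_zero_of_mulVec (hπ : p * q ∈ IsLocalRing.maximalIdeal R) {f g : PowerSeries R}
    (h : Matrix.mulVec (SpinCurv.nodeAlpha R p q)
      ![SpinCurv.NodeRing.ofX R (p * q) f, SpinCurv.NodeRing.ofY R (p * q) g] = 0) : f = 0 ∧ g = 0 := by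
  rw [mulVec_nodeAlpha] at h
  have red : ∀ (i j : Fin 2) (c : R) (f g : PowerSeries R), i ≠ j →
      IsRed (X i * PowerSeries.toMvPowerSeries (σ := Fin 2) i f +
        C c * PowerSeries.toMvPowerSeries (σ := Fin 2) j g) := by
    intro i j c f g hij m h0 h1
    have hi : m i ≠ 0 := by fin_cases i <;> simp <;> omega
    have hj : m j ≠ 0 := by fin_cases j <;> simp <;> omega
    rw [map_add, coeff_C_mul, coeff_toMv_eq_zero hij.symm _ hi, mul_zero, add_zero, coeff_X_mul_toMv,
      if_pos (by intro k; by_cases hk : k = i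
                 · subst hk; simp; omega
                 · simp [single_eq_of_ne hk]), coeff_toMv_eq_zero hij _ (by
        rw [tsub_apply, single_eq_of_ne hij.symm]; simpa using hj)]
  have key : ∀ (i j : Fin 2) (c : R) (f g : PowerSeries R), i ≠ j →
      (Ideal.Quotient.mk _ (X i * PowerSeries.toMvPowerSeries (σ := Fin 2) i f +
        C c * PowerSeries.toMvPowerSeries (σ := Fin 2) j g) : SpinCurv.NodeRing R (p * q)) = 0 → f = 0 := by
    intro i j c f g hij h
    have := red_eq_zero hπ (red i j c f g hij) h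
    ext n
    have hn := congrArg (coeff (single i (n + 1))) this
    rw [map_add, coeff_C_mul, coeff_toMv_eq_zero hij.symm _ (by simp), mul_zero, add_zero,
      coeff_X_mul_toMv, if_pos (single_le_single.2 (by omega)), ← single_tsub, Nat.add_sub_cancel,
      coeff_toMv_single] at hn
    simpa using hn
  refine ⟨key 0 1 p f g (by decide) ?_, key 1 0 q g f (by decide) ?_⟩
  · rw [map_add, map_mul (Ideal.Quotient.mk _), map_mul (Ideal.Quotient.mk _)]
    exact congrFun h 0
  · rw [map_add, map_mul (Ideal.Quotient.mk _), map_mul (Ideal.Quotient.mk _), add_comm]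
    exact congrFun h 1

theorem exists_pure (hπ : p * q ∈ IsLocalRing.maximalIdeal R) (v : Fin 2 → SpinCurv.NodeRing R (p * q)) :
    ∃ f g : PowerSeries R, v - ![SpinCurv.NodeRing.ofX R (p * q) f, SpinCurv.NodeRing.ofY R (p * q) g] ∈
      Submodule.span (SpinCurv.NodeRing R (p * q))
        {![algebraMap R (SpinCurv.NodeRing R (p * q)) p, -SpinCurv.NodeRing.x R (p * q)],
         ![SpinCurv.NodeRing.y R (p * q), -algebraMap R (SpinCurv.NodeRing R (p * q)) q]} := by
  obtain ⟨f₀, c, ha⟩ := exists_ofX_add_y_mul hπ (v 0)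
  obtain ⟨g, f₁, hb⟩ := exists_ofY_add_x_mul hπ (v 1 + algebraMap R _ q * c)
  refine ⟨f₀ + PowerSeries.C p * f₁, g, Submodule.mem_span_pair.2 ⟨-SpinCurv.NodeRing.ofX R (p * q) f₁, c, ?_⟩⟩
  have e : SpinCurv.NodeRing.ofX R (p * q) (f₀ + PowerSeries.C p * f₁) =
      SpinCurv.NodeRing.ofX R (p * q) f₀ + algebraMap R _ p * SpinCurv.NodeRing.ofX R (p * q) f₁ := by
    simp only [SpinCurv.NodeRing.ofX]
    rw [map_add (PowerSeries.toMvPowerSeries (σ := Fin 2) 0), map_mul (PowerSeries.toMvPowerSeries (σ := Fin 2) 0), PowerSeries.toMvPowerSeries_C, map_add (Ideal.Quotient.mk _), map_mul (Ideal.Quotient.mk _)]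
    rfl
  funext i
  fin_cases i
  · simp [e, ha]; ring
  · simp [eq_sub_of_add_eq hb]; ring

theorem mulVec_span_eq_zero (v : Fin 2 → SpinCurv.NodeRing R (p * q))
    (hv : v ∈ Submodule.span (SpinCurv.NodeRing R (p * q))
        {![algebraMap R (SpinCurv.NodeRing R (p * q)) p, -SpinCurv.NodeRing.x R (p * q)],
         ![SpinCurv.NodeRing.y R (p * q), -algebraMap R (SpinCurv.NodeRing R (p * q)) q]}) :
    Matrix.mulVec (SpinCurv.nodeAlpha R p q) v = 0 := by
  have hxy : SpinCurv.NodeRing.x R (p * q) * SpinCurv.NodeRing.y R (p * q) =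
      algebraMap R (SpinCurv.NodeRing R (p * q)) p * algebraMap R (SpinCurv.NodeRing R (p * q)) q := by
    rw [← map_mul, ← map_mul]
    exact (Ideal.Quotient.mk_eq_mk_iff_sub_mem _ _).2 (Ideal.subset_span rfl)
  refine LinearMap.mem_ker.1 (Submodule.span_le.2 ?_ hv : v ∈ LinearMap.ker (Matrix.mulVecLin (SpinCurv.nodeAlpha R p q)))
  rintro w (rfl | rfl) <;>
    · rw [SetLike.mem_coe, LinearMap.mem_ker, Matrix.mulVecLin_apply, mulVec_nodeAlpha]
      funext i
      fin_cases i <;> simp <;> first | linear_combination hxy | linear_combination -hxy | ring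

end Node

end Groth.Agent.SpinCurvLib.NodeNormal
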