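import Groth.Agent.SpinCurvLib.PolyNode

/-!
Glued sections of `O(n)` on the two charts, in the monomial bases.
-/

set_option autoImplicit false

universe u

noncomputable section

open SpinCurv

namespace Groth.Agent.SpinCurvLib

variable {R : Type u} [CommRing R] (p q : R) (n : ℤ)

/-- The first coordinate of the `m`-th glued monomial section. -/
def secU (m : ℤ) : PolyNodeRing R q := (if 0 ≤ m then wt R p (n - m) else 1) • mono R q m

/-- The second coordinate of the `m`-th glued monomial section. -/
def secV (m : ℤ) : PolyNodeRing R p := (if 0 ≤ m then 1 else wt R q m) • mono R p (n - m)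

/-- Glued sections from coefficients. -/
def psi : (ℤ →₀ R) →ₗ[R] PolyNodeRing R q × PolyNodeRing R p :=
  (Finsupp.linearCombination R (secU p q n)).prod (Finsupp.linearCombination R (secV p q n))

theorem psi_coeff (h : ℤ →₀ R) (m : ℤ) :
    nf R q (psi p q n h).1 m = (if 0 ≤ m then wt R p (n - m) else 1) * h m ∧
      nf R p (psi p q n h).2 (n - m) = (if 0 ≤ m then 1 else wt R q m) * h m := by
  induction h using Finsupp.induction_linear with
  | zero => simp
  | add a b ha hb => simp [ha.1, ha.2, hb.1, hb.2, mul_add]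
  | single k r =>
    simp only [psi, LinearMap.prod_apply, Function.prod_apply, Finsupp.linearCombination_single, secU, secV, smul_smul,
      map_smul, nf_mono, Finsupp.smul_single, smul_eq_mul, mul_one, Finsupp.single_apply, sub_right_inj]
    split
    · subst_vars
      exact ⟨mul_comm _ _, mul_comm _ _⟩
    · simp

theorem psi_injective : Function.Injective (psi p q n) := fun a b h => by
  ext m
  have ha := psi_coeff p q n a m
  have hb := psi_coeff p q n b m
  rw [h] at ha
  by_cases hm : 0 ≤ m
  · simpa [hm] using ha.2.symm.trans hb.2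
  · simpa [hm] using ha.1.symm.trans hb.1

variable {p q n}

theorem eq_iff_exists_psi {gU : PolyNodeRing R q →ₐ[R] LaurentPolynomial R}
    {gV : PolyNodeRing R p →ₐ[R] LaurentPolynomial R}
    (hgUs : gU (PolyNodeRing.x R q) = LaurentPolynomial.T 1)
    (hgUy : gU (PolyNodeRing.y R q) = LaurentPolynomial.C q * LaurentPolynomial.T (-1))
    (hgVt : gV (PolyNodeRing.x R p) = LaurentPolynomial.T (-1))
    (hgVx : gV (PolyNodeRing.y R p) = LaurentPolynomial.C p * LaurentPolynomial.T 1)
    (hn : -1 ≤ n) (g : PolyNodeRing R q) (f : PolyNodeRing R p) :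
    gU g = LaurentPolynomial.T n * gV f ↔ ∃ h, psi p q n h = (g, f) := by
  have hl : ∀ m, (gU g).coeff m = wt R q m * nf R q g m := fun m => by
    have := chart_apply (one_mul 1) hgUs hgUy 0 g m
    rwa [LaurentPolynomial.T_zero, one_mul, sub_zero, one_mul] at this
  have hr : ∀ m, (LaurentPolynomial.T n * gV f).coeff m = wt R p (n - m) * nf R p f (n - m) := fun m => by
    have := chart_apply (ε := -1) (by norm_num) hgVt (by rw [neg_neg]; exact hgVx) n f m
    rwa [neg_one_mul, neg_sub] at this
  constructor
  · intro he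
    have heq : ∀ m, wt R q m * nf R q g m = wt R p (n - m) * nf R p f (n - m) := fun m => by
      rw [← hl, ← hr, he]
    classical
    let h : ℤ →₀ R := (nf R q g).filter (fun m => ¬ 0 ≤ m) + ((nf R p f).mapDomain (n - ·)).filter (fun m => 0 ≤ m)
    have hh : ∀ m, h m = if 0 ≤ m then nf R p f (n - m) else nf R q g m := fun m => by
      have hmd : (nf R p f).mapDomain (n - ·) m = nf R p f (n - m) := by
        conv_lhs => rw [show m = n - (n - m) by ring, Finsupp.mapDomain_apply (fun a b h => by simpa using h)]
      simp only [h, Finsupp.add_apply, Finsupp.filter_apply, hmd]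
      by_cases hm : 0 ≤ m <;> simp [hm]
    refine ⟨h, Prod.ext ((nfEquiv R q).injective (Finsupp.ext fun m => ?_)) ((nfEquiv R p).injective (Finsupp.ext fun k => ?_))⟩
    · show nf R q (psi p q n h).1 m = nf R q g m
      rw [(psi_coeff p q n h m).1, hh]
      by_cases hm : 0 ≤ m
      · rw [if_pos hm, if_pos hm, ← heq, wt_nonneg R q hm, one_mul]
      · rw [if_neg hm, if_neg hm, one_mul]
    · show nf R p (psi p q n h).2 k = nf R p f k
      obtain ⟨m, rfl⟩ : ∃ m, k = n - m := ⟨n - k, by ring⟩
      rw [(psi_coeff p q n h m).2, hh]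
      by_cases hm : 0 ≤ m
      · rw [if_pos hm, if_pos hm, one_mul]
      · rw [if_neg hm, if_neg hm, heq, wt_nonneg R p (by omega), one_mul]
  · rintro ⟨h, hh⟩
    obtain ⟨rfl, rfl⟩ := Prod.ext_iff.1 hh
    refine LaurentPolynomial.ext fun m => ?_
    rw [hl, hr, (psi_coeff p q n h m).1, (psi_coeff p q n h m).2]
    by_cases hm : 0 ≤ m
    · rw [if_pos hm, if_pos hm, wt_nonneg R q hm, one_mul, one_mul]
    · rw [if_neg hm, if_neg hm, wt_nonneg R p (show 0 ≤ n - m by omega), one_mul, one_mul]

end Groth.Agent.SpinCurvLib
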