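import Groth.Prelude.Def_W4c5spincurvestfNode
import Mathlib.Algebra.Polynomial.Laurent
import Mathlib.LinearAlgebra.Finsupp.LinearCombination
import Mathlib.LinearAlgebra.FreeModule.Basic

/-!
The monomial basis of `R[x,y]/(xy - π)` and the glued sections of `O(n)`.
-/

set_option autoImplicit false

universe u

noncomputable section

open SpinCurv

namespace Groth.Agent.SpinCurvLib

variable (R : Type u) [CommRing R] (π : R)

/-- `x^k` for `k ≥ 0`, `y^{-k}` for `k < 0`. -/
def mono (k : ℤ) : PolyNodeRing R π :=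
  PolyNodeRing.x R π ^ k.toNat * PolyNodeRing.y R π ^ (-k).toNat

theorem x_mul_y : PolyNodeRing.x R π * PolyNodeRing.y R π = algebraMap R _ π := by
  rw [← map_mul]
  exact Ideal.Quotient.eq.2 (Ideal.subset_span rfl)

theorem pow_mul_pow (a b : ℕ) :
    PolyNodeRing.x R π ^ a * PolyNodeRing.y R π ^ b = π ^ min a b • mono R π ((a : ℤ) - b) := by
  rw [Algebra.smul_def (A := PolyNodeRing R π), map_pow, ← x_mul_y]
  rcases le_total a b with h | h
  · obtain ⟨c, rfl⟩ := Nat.exists_eq_add_of_le h
    rw [mono, min_eq_left h, show ((a : ℤ) - ↑(a + c)) = -(c : ℤ) by push_cast; ring, Int.toNat_neg_natCast,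
      neg_neg, Int.toNat_natCast, pow_add, mul_pow]
    ring
  · obtain ⟨c, rfl⟩ := Nat.exists_eq_add_of_le h
    rw [mono, min_eq_right h, show ((↑(b + c) : ℤ) - b) = (c : ℤ) by push_cast; ring, Int.toNat_natCast,
      Int.toNat_neg_natCast, pow_add, mul_pow]
    ring

/-- Coefficients in the monomial basis, on polynomials. -/
def nf₀ : MvPolynomial (Fin 2) R →ₗ[R] (ℤ →₀ R) :=
  (MvPolynomial.basisMonomials (Fin 2) R).constr R fun m => Finsupp.single ((m 0 : ℤ) - m 1) (π ^ min (m 0) (m 1))

theorem nf₀_monomial (m : Fin 2 →₀ ℕ) (r : R) :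
    nf₀ R π (MvPolynomial.monomial m r) = Finsupp.single ((m 0 : ℤ) - m 1) (r * π ^ min (m 0) (m 1)) := by
  have h : MvPolynomial.monomial m r = r • (MvPolynomial.basisMonomials (Fin 2) R) m := by
    simp [MvPolynomial.smul_monomial]
  rw [h, map_smul, nf₀, Module.Basis.constr_basis, Finsupp.smul_single, smul_eq_mul]

theorem nf₀_eq_zero {z : MvPolynomial (Fin 2) R}
    (hz : z ∈ Ideal.span {(MvPolynomial.X 0 * MvPolynomial.X 1 - MvPolynomial.C π : MvPolynomial (Fin 2) R)}) :
    nf₀ R π z = 0 := by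
  obtain ⟨c, rfl⟩ := Ideal.mem_span_singleton'.1 hz
  induction c using MvPolynomial.induction_on' with
  | add a b ha hb =>
    rw [add_mul, map_add, ha (Ideal.mul_mem_left _ _ (Ideal.subset_span rfl)),
      hb (Ideal.mul_mem_left _ _ (Ideal.subset_span rfl)), add_zero]
  | monomial m r =>
    rw [mul_sub, MvPolynomial.X, MvPolynomial.X, MvPolynomial.C_apply, MvPolynomial.monomial_mul,
      MvPolynomial.monomial_mul, MvPolynomial.monomial_mul, map_sub, nf₀_monomial, nf₀_monomial]
    simp only [Finsupp.coe_add, Pi.add_apply, Finsupp.single_eq_same, one_mul, mul_one, add_zero,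
      ne_eq, Finsupp.coe_zero, Pi.zero_apply, Finsupp.single_apply, Fin.zero_eq_one_iff, Fin.one_eq_zero_iff,
      OfNat.ofNat_ne_one, if_false, zero_add]
    rw [Nat.add_min_add_right, pow_succ, sub_eq_zero]
    congr 1
    · push_cast; ring
    · ring

/-- Coefficients in the monomial basis. -/
def nf : PolyNodeRing R π →ₗ[R] (ℤ →₀ R) :=
  Submodule.liftQ ((Ideal.span {(MvPolynomial.X 0 * MvPolynomial.X 1 - MvPolynomial.C π :
    MvPolynomial (Fin 2) R)}).restrictScalars R) (nf₀ R π) fun _ hz => nf₀_eq_zero R π hz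

theorem nf_mk (z : MvPolynomial (Fin 2) R) : nf R π (Ideal.Quotient.mk _ z) = nf₀ R π z := rfl

theorem nf_mono (k : ℤ) : nf R π (mono R π k) = Finsupp.single k 1 := by
  rw [mono, ← map_pow, ← map_pow, ← map_mul, nf_mk, MvPolynomial.X, MvPolynomial.X, MvPolynomial.monomial_pow,
    MvPolynomial.monomial_pow, MvPolynomial.monomial_mul, nf₀_monomial]
  rcases le_total 0 k with h | h
  · obtain ⟨c, rfl⟩ := Int.eq_ofNat_of_zero_le h
    simp [Int.toNat_neg_natCast]
  · obtain ⟨c, hc⟩ := Int.eq_ofNat_of_zero_le (neg_nonneg.2 h)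
    obtain rfl : k = -(c : ℤ) := by omega
    simp [Int.toNat_neg_natCast]

theorem linearCombination_nf (z : PolyNodeRing R π) :
    Finsupp.linearCombination R (mono R π) (nf R π z) = z := by
  obtain ⟨z, rfl⟩ := Ideal.Quotient.mk_surjective z
  induction z using MvPolynomial.induction_on' with
  | add a b ha hb => rw [map_add, map_add, map_add, ha, hb]
  | monomial m r =>
    rw [nf_mk, nf₀_monomial, Finsupp.linearCombination_single, mul_smul, ← pow_mul_pow, ← map_pow, ← map_pow,
      ← map_mul]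
    show Ideal.Quotient.mk _ (r • (MvPolynomial.X 0 ^ m 0 * MvPolynomial.X 1 ^ m 1)) = _
    congr 1
    rw [MvPolynomial.monomial_eq, MvPolynomial.smul_eq_C_mul, Finsupp.prod_fintype _ _ (fun i => pow_zero _),
      Fin.prod_univ_two]

/-- The monomial basis. -/
def nfEquiv : PolyNodeRing R π ≃ₗ[R] (ℤ →₀ R) :=
  LinearEquiv.ofLinearMap (nf R π) (Finsupp.linearCombination R (mono R π))
    (Finsupp.lhom_ext fun k r => by
      rw [LinearMap.comp_apply, Finsupp.linearCombination_single, map_smul, nf_mono, LinearMap.id_apply,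
        Finsupp.smul_single, smul_eq_mul, mul_one])
    (LinearMap.ext (linearCombination_nf R π))

theorem linearMap_ext {M : Type*} [AddCommGroup M] [Module R M] {f g : PolyNodeRing R π →ₗ[R] M}
    (h : ∀ k, f (mono R π k) = g (mono R π k)) : f = g := by
  have hc : f.comp (Finsupp.linearCombination R (mono R π)) = g.comp (Finsupp.linearCombination R (mono R π)) :=
    Finsupp.lhom_ext fun k r => by simp [h]
  refine LinearMap.ext fun z => ?_
  rw [← linearCombination_nf R π z]
  exact LinearMap.congr_fun hc _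

/-- `1` in nonnegative degree, `c^{-k}` in negative degree `k`. -/
def wt (c : R) (k : ℤ) : R := c ^ (-k).toNat

theorem wt_nonneg (c : R) {k : ℤ} (h : 0 ≤ k) : wt R c k = 1 := by
  rw [wt, Int.toNat_eq_zero.2 (by omega), pow_zero]

variable {R}

theorem chart_mono {q : R} {g : PolyNodeRing R q →ₐ[R] LaurentPolynomial R} {ε : ℤ}
    (hx : g (PolyNodeRing.x R q) = LaurentPolynomial.T ε)
    (hy : g (PolyNodeRing.y R q) = LaurentPolynomial.C q * LaurentPolynomial.T (-ε)) (k : ℤ) :
    g (mono R q k) = wt R q k • LaurentPolynomial.T (ε * k) := by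
  rw [mono, map_mul, map_pow, map_pow, hx, hy, mul_pow, LaurentPolynomial.T_pow, LaurentPolynomial.T_pow,
    ← map_pow, ← mul_assoc, mul_comm (LaurentPolynomial.T _) (LaurentPolynomial.C _), mul_assoc,
    ← LaurentPolynomial.T_add, LaurentPolynomial.smul_eq_C_mul, wt]
  congr 2
  linear_combination ε * Int.toNat_sub_toNat_neg k

theorem chart_apply {q : R} {g : PolyNodeRing R q →ₐ[R] LaurentPolynomial R} {ε : ℤ} (hε : ε * ε = 1)
    (hx : g (PolyNodeRing.x R q) = LaurentPolynomial.T ε)
    (hy : g (PolyNodeRing.y R q) = LaurentPolynomial.C q * LaurentPolynomial.T (-ε))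
    (n : ℤ) (z : PolyNodeRing R q) (m : ℤ) :
    (LaurentPolynomial.T n * g z).coeff m = wt R q (ε * (m - n)) * nf R q z (ε * (m - n)) := by
  suffices h : ((Finsupp.lapply m).comp ((AddMonoidAlgebra.coeffLinearEquiv R).toLinearMap.comp
      ((LinearMap.mulLeft R (LaurentPolynomial.T n)).comp g.toLinearMap)) : _ →ₗ[R] R) =
      wt R q (ε * (m - n)) • (Finsupp.lapply (ε * (m - n))).comp (nf R q) from LinearMap.congr_fun h z
  refine linearMap_ext R q fun k => ?_
  show (LaurentPolynomial.T n * g (mono R q k)).coeff m = wt R q (ε * (m - n)) * nf R q (mono R q k) (ε * (m - n))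
  rw [chart_mono hx hy, mul_smul_comm, ← LaurentPolynomial.T_add, AddMonoidAlgebra.coeff_smul_apply,
    LaurentPolynomial.T_apply, nf_mono, Finsupp.single_apply, smul_eq_mul]
  by_cases hk : k = ε * (m - n)
  · subst hk
    rw [if_pos rfl, if_pos (by rw [← mul_assoc, hε, one_mul]; ring)]
  · rw [if_neg hk, if_neg, mul_zero, mul_zero]
    exact fun h => hk (by rw [← h, add_sub_cancel_left, ← mul_assoc, hε, one_mul])

end Groth.Agent.SpinCurvLib
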